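import Groth.Agent.H17.Topology
import Groth.Agent.H12AlgSp.UnivInj
import Groth.Agent.H12AlgSp.Bootstrap
import Mathlib.AlgebraicGeometry.Artinian
import Mathlib.AlgebraicGeometry.Limits
import Mathlib.AlgebraicGeometry.Morphisms.Etale
import Mathlib.AlgebraicGeometry.Morphisms.QuasiFinite
import Mathlib.AlgebraicGeometry.Morphisms.Flat
import Mathlib.RingTheory.Unramified.Field
import Mathlib.RingTheory.Etale.Field

/-!
The scheme of connected components of a scheme locally of finite type over a field.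
-/

set_option autoImplicit false
set_option backward.isDefEq.respectTransparency false
set_option linter.style.haveILetI false

universe u

open CategoryTheory CategoryTheory.Limits AlgebraicGeometry Opposite TopologicalSpace

namespace Groth.Agent.H13Pi0

theorem locallyConnected (X : Scheme.{u}) [IsLocallyNoetherian X] : LocallyConnectedSpace X :=
  H17.locallyConnectedSpace_of_locallyNoetherian fun x => by
    obtain ⟨W, hW, hxW, -⟩ := exists_isAffineOpen_mem_and_subset (TopologicalSpace.Opens.mem_top x)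
    haveI : IsNoetherianRing Γ(X, W) := IsLocallyNoetherian.component_noetherian ⟨W, hW⟩
    exact ⟨W, W.2.mem_nhds hxW, (noetherianSpace_of_isAffineOpen W hW)⟩

section Alg

variable {k : Type u} [Field k]

theorem isField_of_idem {C : Type u} [CommRing C] [Algebra k C] [Module.Finite k C] [IsReduced C] [Nontrivial C]
    (h : ∀ e : C, IsIdempotentElem e → e = 0 ∨ e = 1) : IsField C := by
  haveI : IsArtinianRing C := IsArtinianRing.of_finite k C
  refine ⟨⟨0, 1, zero_ne_one⟩, mul_comm, fun {a} ha => ?_⟩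
  obtain ⟨n, c, hc⟩ : ∃ n : ℕ, ∃ c : C, a ^ n = a ^ (n + 1) * c := by
    obtain ⟨n, y, hy⟩ := IsArtinian.exists_pow_succ_smul_dvd a (1 : C)
    exact ⟨n, y, by simpa [smul_eq_mul, Nat.succ_eq_add_one] using hy.symm⟩
  have hm : ∀ m : ℕ, a ^ n = a ^ (n + m) * c ^ m := fun m => by
    induction m with
    | zero => simp
    | succ m ih =>
      calc a ^ n = a ^ (n + m) * c ^ m := ih
        _ = a ^ n * a ^ m * c ^ m := by rw [pow_add]
        _ = a ^ (n + 1) * c * a ^ m * c ^ m := by rw [← hc]
        _ = _ := by ring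
  have he : IsIdempotentElem ((a * c) ^ n) := by
    show (a * c) ^ n * (a * c) ^ n = (a * c) ^ n
    calc (a * c) ^ n * (a * c) ^ n = a ^ (n + n) * c ^ n * c ^ n := by ring
      _ = a ^ n * c ^ n := by rw [← hm n]
      _ = _ := by ring
  rcases h _ he with h0 | h1
  · refine absurd (eq_zero_of_pow_eq_zero (n := n) ?_) ha
    calc a ^ n = a ^ (n + n) * c ^ n := hm n
      _ = a ^ n * (a * c) ^ n := by ring
      _ = 0 := by rw [h0, mul_zero]
  · cases n with
    | zero => exact ⟨c, by simpa using hc.symm⟩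
    | succ n => exact ⟨c * (a * c) ^ n, by rw [← h1]; ring⟩

/-- A finite separable subfield of an algebra. -/
structure SepSub (k Γ : Type u) [Field k] [CommRing Γ] [Algebra k Γ] (B : Subalgebra k Γ) : Prop where
  fin : Module.Finite k B
  field : IsField B
  unr : Algebra.FormallyUnramified k B

variable {Γ : Type u} [CommRing Γ] [Algebra k Γ]

theorem sepSub_sup [Nontrivial Γ] (h : ∀ e : Γ, IsIdempotentElem e → e = 0 ∨ e = 1) {B B' : Subalgebra k Γ}
    (hB : SepSub k Γ B) (hB' : SepSub k Γ B') : SepSub k Γ (B ⊔ B') := by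
  haveI := hB.fin; haveI := hB'.fin; haveI := hB.unr; haveI := hB'.unr
  haveI : Algebra.FormallyUnramified B (TensorProduct k B B') := inferInstance
  haveI : Algebra.FormallyUnramified k (TensorProduct k B B') := Algebra.FormallyUnramified.comp k B _
  let φ := (Algebra.TensorProduct.productMap B.val B'.val)
  have hr : φ.range = B ⊔ B' := by
    rw [Algebra.TensorProduct.productMap_range, Subalgebra.range_val, Subalgebra.range_val]
  rw [← hr]
  have hsurj : Function.Surjective φ.rangeRestrict := φ.rangeRestrict_surjective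
  haveI hf : Module.Finite k φ.range := Module.Finite.of_surjective φ.rangeRestrict.toLinearMap hsurj
  haveI hu : Algebra.FormallyUnramified k φ.range := Algebra.FormallyUnramified.of_surjective φ.rangeRestrict hsurj
  haveI : IsReduced φ.range := Algebra.FormallyUnramified.isReduced_of_field k φ.range
  refine ⟨hf, isField_of_idem (k := k) fun e he => ?_, hu⟩
  rcases h e.1 (congrArg Subtype.val he) with h0 | h1
  exacts [Or.inl (Subtype.ext h0), Or.inr (Subtype.ext h1)]

theorem sepSub_range [Nontrivial Γ] {F : Type u} [CommRing F] [Algebra k F] [Module.Finite k F]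
    [Algebra.FormallyUnramified k F] (hF : IsField F) (φ : F →ₐ[k] Γ) : SepSub k Γ φ.range := by
  letI := hF.toField
  have hinj : Function.Injective φ := φ.toRingHom.injective
  let e := AlgEquiv.ofInjective φ hinj
  exact ⟨Module.Finite.equiv e.toLinearEquiv, e.symm.toMulEquiv.isField hF,
    Algebra.FormallyUnramified.of_equiv e⟩

/-- The largest finite separable subfield, when degrees are bounded by a point. -/
theorem exists_max [Nontrivial Γ] (h : ∀ e : Γ, IsIdempotentElem e → e = 0 ∨ e = 1)
    {L : Type u} [Field L] [Algebra k L] [Module.Finite k L] (ψ : Γ →ₐ[k] L) :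
    ∃ B : Subalgebra k Γ, SepSub k Γ B ∧ ∀ B', SepSub k Γ B' → B' ≤ B := by
  classical
  have hbd : ∀ B, SepSub k Γ B → Module.finrank k B ≤ Module.finrank k L := fun B hB => by
    letI := hB.field.toField
    exact LinearMap.finrank_le_finrank_of_injective (f := (ψ.comp B.val).toLinearMap) (ψ.comp B.val).toRingHom.injective
  have hbot : SepSub k Γ ⊥ := by
    simpa [Algebra.range_ofId] using sepSub_range (Field.toIsField k) (Algebra.ofId k Γ)
  let p : ℕ → Prop := fun n => ∃ B, SepSub k Γ B ∧ Module.finrank k B = n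
  obtain ⟨B, hB, hBn⟩ : p (Nat.findGreatest p (Module.finrank k L)) :=
    Nat.findGreatest_spec (hbd ⊥ hbot) ⟨⊥, hbot, rfl⟩
  refine ⟨B, hB, fun B' hB' => ?_⟩
  have hs := sepSub_sup h hB hB'
  haveI := hs.fin
  have hle : Module.finrank k ↥(B ⊔ B') ≤ Module.finrank k B :=
    hBn ▸ Nat.le_findGreatest (hbd _ hs) ⟨_, hs, rfl⟩
  have : B = B ⊔ B' := Subalgebra.toSubmodule_injective
    (Submodule.eq_of_le_of_finrank_le (le_sup_left : B ≤ B ⊔ B') hle)
  exact le_sup_right.trans this.ge

end Alg

theorem idem_trivial {X : Scheme.{u}} (U : X.Opens) (hU : _root_.IsPreconnected (U : Set X)) (e : Γ(X, U))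
    (he : IsIdempotentElem e) : e = 0 ∨ e = 1 := by
  have hsup : X.basicOpen e ⊔ X.basicOpen (1 - e) = U := by
    refine le_antisymm (sup_le (X.basicOpen_le _) (X.basicOpen_le _)) fun x hx => ?_
    rcases IsLocalRing.isUnit_or_isUnit_one_sub_self (X.presheaf.germ U x hx e) with h | h
    · exact Or.inl ((X.mem_basicOpen e x hx).2 h)
    · exact Or.inr ((X.mem_basicOpen _ x hx).2 (by rwa [map_sub, map_one]))
  have hinf : X.basicOpen e ⊓ X.basicOpen (1 - e) = ⊥ := by
    rw [← X.basicOpen_mul, he.mul_one_sub_self, X.basicOpen_zero]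
  have key : ∀ a : Γ(X, U), IsIdempotentElem a → U ≤ X.basicOpen a → a = 1 := fun a ha hle => by
    have hu : IsUnit a := by
      have := RingedSpace.isUnit_res_basicOpen X.toRingedSpace a
      refine X.toRingedSpace.isUnit_of_isUnit_germ U a fun x hx => (X.mem_basicOpen a x hx).1 (hle hx)
    exact (IsIdempotentElem.iff_eq_one_of_isUnit hu).1 ha
  by_cases h1 : (↑U ∩ (X.basicOpen e : Set X)).Nonempty
  · refine Or.inr (key e he fun x hx => ?_)
    by_contra hxe
    obtain ⟨y, -, hy⟩ := hU _ _ (X.basicOpen e).2 (X.basicOpen (1 - e)).2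
      (fun z hz => hsup.ge hz) h1 ⟨x, hx, (hsup.ge hx).resolve_left hxe⟩
    exact (hinf.le hy).elim
  · refine Or.inl (sub_eq_self.1 (key (1 - e) he.one_sub fun x hx => (hsup.ge hx).resolve_left fun hxe => h1 ⟨x, hx, hxe⟩))

theorem toSpec_eq {Z : Scheme.{u}} {R : CommRingCat.{u}} (g : Z ⟶ Spec R) :
    Z.toSpecΓ ≫ Spec.map ((Scheme.ΓSpecIso R).inv ≫ g.appTop) = g := by
  rw [Spec.map_comp, ← Scheme.toSpecΓ_naturality_assoc, toSpecΓ_SpecMap_ΓSpecIso_inv, Category.comp_id]

variable (k : Type u) [Field k] (X : Scheme.{u}) (f : X ⟶ Spec (CommRingCat.of k))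

/-- A connected component as an open subscheme. -/
def comp [LocallyConnectedSpace X] (c : ConnectedComponents X) : X.Opens :=
  ⟨ConnectedComponents.mk ⁻¹' {c}, (isOpen_discrete {c}).preimage ConnectedComponents.continuous_coe⟩

theorem isPreconnected_comp [LocallyConnectedSpace X] (c : ConnectedComponents X) :
    _root_.IsPreconnected (comp X c : Set X) := by
  obtain ⟨x, rfl⟩ := ConnectedComponents.surjective_coe c
  show _root_.IsPreconnected (ConnectedComponents.mk ⁻¹' {ConnectedComponents.mk x})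
  rw [connectedComponents_preimage_singleton]
  exact isPreconnected_connectedComponent

theorem main [LocallyOfFiniteType f] [LocallyConnectedSpace X] :
    ∃ (P : Scheme.{u}) (g : P ⟶ Spec (CommRingCat.of k)) (q : X ⟶ P), Etale g ∧ q ≫ g = f ∧
      (∀ (Y : Scheme.{u}) (gY : Y ⟶ Spec (CommRingCat.of k)) (h : X ⟶ Y), Etale gY → h ≫ gY = f →
        ∃! t : P ⟶ Y, t ≫ gY = g ∧ q ≫ t = h) ∧
      Flat q ∧ Surjective q ∧
      ∀ x : ↥X, (fun x' : ↥X => q x') ⁻¹' {q x} = connectedComponent x := by
  classical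
  let U := comp X
  have hne : ∀ c, ∃ x : X, x ∈ U c := fun c => by
    obtain ⟨x, rfl⟩ := ConnectedComponents.surjective_coe c; exact ⟨x, rfl⟩
  let sc : ∀ c, CommRingCat.of k ⟶ Γ(↑(U c), ⊤) := fun c => (Scheme.ΓSpecIso _).inv ≫ ((U c).ι ≫ f).appTop
  letI algc : ∀ c, Algebra k Γ(↑(U c), ⊤) := fun c => (sc c).hom.toAlgebra
  have hidem : ∀ c (e : Γ(↑(U c), ⊤)), IsIdempotentElem e → e = 0 ∨ e = 1 := fun c e he => by
    haveI : PreconnectedSpace ↥(U c).toScheme :=
      Subtype.preconnectedSpace (isPreconnected_comp X c)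
    exact idem_trivial (X := (U c).toScheme) ⊤ (by rw [TopologicalSpace.Opens.coe_top]; exact isPreconnected_univ) e he
  have hnt : ∀ c, Nontrivial Γ(↑(U c), ⊤) := fun c => by
    obtain ⟨x, hx⟩ := hne c
    exact RingHom.domain_nontrivial ((U c).toScheme.presheaf.germ ⊤ ⟨x, hx⟩ trivial).hom
  have hmax : ∀ c, ∃ B : Subalgebra k Γ(↑(U c), ⊤), SepSub k _ B ∧ ∀ B', SepSub k _ B' → B' ≤ B := fun c => by
    haveI := hnt c
    obtain ⟨x, hx⟩ := hne c
    haveI : Nonempty (U c) := ⟨⟨x, hx⟩⟩
    haveI : JacobsonSpace (U c) := LocallyOfFiniteType.jacobsonSpace ((U c).ι ≫ f)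
    obtain ⟨p, hp⟩ := nonempty_inter_closedPoints (X := ↑(U c)) ⟨Classical.arbitrary _, Set.mem_univ _⟩ isOpen_univ.isLocallyClosed
    let v : Spec ((U c).toScheme.residueField p) ⟶ Spec (CommRingCat.of k) :=
      (U c).toScheme.fromSpecResidueField p ≫ (U c).ι ≫ f
    haveI : IsClosedImmersion ((U c).toScheme.fromSpecResidueField p) :=
      IsClosedImmersion.of_isPreimmersion _ (by
        rw [Scheme.range_fromSpecResidueField]; exact hp.2)
    haveI : LocallyOfFiniteType v := inferInstance
    let φ := Spec.preimage v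
    letI := φ.hom.toAlgebra
    haveI : Algebra.FiniteType k ((U c).toScheme.residueField p) :=
      (HasRingHomProperty.Spec_iff (P := @LocallyOfFiniteType) (φ := φ)).1 (by rw [Spec.map_preimage]; infer_instance)
    haveI : Module.Finite k ((U c).toScheme.residueField p) := finite_of_finite_type_of_isJacobsonRing k _
    refine exists_max (hidem c) (L := (U c).toScheme.residueField p)
      { toRingHom := (((U c).toScheme.presheaf.germ ⊤ p trivial) ≫ (U c).toScheme.residue p).hom
        commutes' := fun r => ?_ }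
    have : sc c ≫ ((U c).toScheme.presheaf.germ ⊤ p trivial ≫ (U c).toScheme.residue p) = φ := by
      apply Spec.map_injective
      rw [Spec.map_preimage]
      show _ = (U c).toScheme.fromSpecResidueField p ≫ (U c).ι ≫ f
      conv_rhs => rw [← toSpec_eq ((U c).ι ≫ f)]
      rw [Spec.map_comp, Spec.map_comp, Scheme.fromSpecResidueField, Category.assoc]
      rw [Category.assoc, Scheme.fromSpecStalk_toSpecΓ_assoc]
    exact congr($(this) r)
  choose B hB hBmax using hmax
  let P := ∐ fun c => Spec (CommRingCat.of (B c))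
  let gc : ∀ c, Spec (CommRingCat.of (B c)) ⟶ Spec (CommRingCat.of k) :=
    fun c => Spec.map (CommRingCat.ofHom (algebraMap k (B c)))
  let qc : ∀ c, (U c).toScheme ⟶ Spec (CommRingCat.of (B c)) :=
    fun c => (U c).toScheme.toSpecΓ ≫ Spec.map (CommRingCat.ofHom (B c).val.toRingHom)
  have hqg : ∀ c, qc c ≫ gc c = (U c).ι ≫ f := fun c => by
    simp only [qc, gc, Category.assoc, ← Spec.map_comp]
    refine Eq.trans ?_ (toSpec_eq ((U c).ι ≫ f))
    rfl
  have hdisj : Pairwise (fun c c' => Disjoint (U c).ι.opensRange (U c').ι.opensRange) := fun c c' hcc' => by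
    show Disjoint (U c).ι.opensRange (U c').ι.opensRange
    rw [Scheme.Opens.opensRange_ι, Scheme.Opens.opensRange_ι, disjoint_iff, eq_bot_iff]
    exact fun x hx => (hcc' (hx.1.symm.trans hx.2)).elim
  have hcov : ⨆ c, (U c).ι.opensRange = ⊤ := top_unique fun x _ =>
    Opens.mem_iSup.2 ⟨ConnectedComponents.mk x, (Scheme.Opens.opensRange_ι (U _)).ge rfl⟩
  obtain ⟨hX⟩ := nonempty_isColimit_cofanMk_of (fun c => (U c).ι) hcov hdisj
  let g : P ⟶ Spec (CommRingCat.of k) := Sigma.desc gc
  let q : X ⟶ P := Cofan.IsColimit.desc hX fun c => qc c ≫ Sigma.ι (fun c => Spec (CommRingCat.of (B c))) c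
  have hq : ∀ c, (U c).ι ≫ q = qc c ≫ Sigma.ι (fun c => Spec (CommRingCat.of (B c))) c :=
    fun c => Cofan.IsColimit.fac hX _ c
  have hsub : ∀ c, Subsingleton (Spec (CommRingCat.of (B c))) := fun c => by
    letI := (hB c).field.toField
    exact inferInstanceAs (Subsingleton (PrimeSpectrum _))
  have hqx : ∀ x c, x ∈ U c → q x ∈ Set.range (Sigma.ι (fun c => Spec (CommRingCat.of (B c))) c) := fun x c hx =>
    ⟨qc c ⟨x, hx⟩, by rw [← Scheme.Hom.comp_apply, ← hq, Scheme.Hom.comp_apply]; rfl⟩
  refine ⟨P, g, q, ?_, ?_, ?_, ?_, ?_, ?_⟩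
  · haveI : ∀ c, Etale (gc c) := fun c => by
      haveI := (hB c).fin
      haveI := (hB c).unr
      letI := (hB c).field.toField
      haveI : Algebra.IsSeparable k (B c) := (Algebra.FormallyUnramified.iff_isSeparable k (B c)).1 inferInstance
      haveI : Algebra.FormallyEtale k (B c) := (Algebra.FormallyEtale.iff_isSeparable k (B c)).2 inferInstance
      haveI : Algebra.Etale k (B c) := ⟨inferInstance, Algebra.FinitePresentation.of_finiteType.1 inferInstance⟩
      rw [HasRingHomProperty.Spec_iff (P := @Etale)]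
      exact RingHom.etale_algebraMap.2 inferInstance
    exact IsZariskiLocalAtSource.of_openCover (P := @Etale) (sigmaOpenCover _) (fun c => by
      show Etale (Sigma.ι (fun c => Spec (CommRingCat.of (B c))) c ≫ g)
      rw [Sigma.ι_desc]; infer_instance)
  · refine Cofan.IsColimit.hom_ext hX _ _ fun c => ?_
    show (U c).ι ≫ q ≫ g = (U c).ι ≫ f
    rw [← Category.assoc, hq, Category.assoc, Sigma.ι_desc, hqg]
  · intro Y gY h hY hh
    haveI : LocallyQuasiFinite gY := H12AlgSp.lqf_of_etale gY
    haveI : IsLocallyArtinian (Spec (CommRingCat.of k)) := inferInstance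
    haveI : IsLocallyArtinian Y := IsLocallyArtinian.of_locallyQuasiFinite gY
    have hex : ∀ c, ∃! t : Spec (CommRingCat.of (B c)) ⟶ Y, t ≫ gY = gc c ∧ qc c ≫ t = (U c).ι ≫ h := by
      intro c
      haveI := hnt c
      obtain ⟨x, hx⟩ := hne c
      haveI : PreconnectedSpace ↥(U c).toScheme := Subtype.preconnectedSpace (isPreconnected_comp X c)
      set hc := (U c).ι ≫ h with hhc
      let y := hc ⟨x, hx⟩
      have hy : ∀ z, hc z = y := fun z => PreconnectedSpace.constant inferInstance hc.continuous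
      let V : Y.Opens := ⟨{y}, isOpen_discrete _⟩
      haveI : Subsingleton V := ⟨fun a b => Subtype.ext ((show a.1 = y from a.2).trans (show b.1 = y from b.2).symm)⟩
      haveI : Finite V := inferInstance
      haveI : DiscreteTopology V := inferInstance
      haveI : IsAffine V := inferInstance
      haveI : Nonempty V := ⟨⟨y, rfl⟩⟩
      haveI hV : Etale (V.ι ≫ gY) := inferInstance
      let ψ := (Scheme.ΓSpecIso (CommRingCat.of k)).inv ≫ (V.ι ≫ gY).appTop
      letI := ψ.hom.toAlgebra
      have hψ : Spec.map ψ = V.toScheme.isoSpec.inv ≫ V.ι ≫ gY := by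
        rw [Iso.eq_inv_comp]; exact toSpec_eq _
      haveI : Nontrivial Γ(V.toScheme, ⊤) := RingHom.domain_nontrivial
        (V.toScheme.presheaf.germ ⊤ ⟨y, rfl⟩ trivial).hom
      haveI : Etale (Spec.map ψ) := by rw [hψ]; infer_instance
      haveI hE : Algebra.Etale k Γ(V.toScheme, ⊤) :=
        RingHom.etale_algebraMap.1 ((HasRingHomProperty.Spec_iff (P := @Etale) (φ := ψ)).1 inferInstance)
      haveI : IsReduced Γ(V.toScheme, ⊤) := Algebra.FormallyUnramified.isReduced_of_field k _
      haveI : Module.Finite k Γ(V.toScheme, ⊤) := Algebra.FormallyUnramified.finite_of_free k _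
      have hEf : IsField Γ(V.toScheme, ⊤) := isField_of_idem (k := k) fun e he =>
        idem_trivial ⊤ (Set.subsingleton_univ.isPreconnected) e he
      have hlift : ∀ z, hc z ∈ Set.range V.ι := fun z => by rw [Scheme.Opens.range_ι]; exact hy z
      let hV' := IsOpenImmersion.lift V.ι hc (by rintro _ ⟨z, rfl⟩; exact hlift z)
      let a : Γ(V.toScheme, ⊤) →ₐ[k] Γ((U c).toScheme, ⊤) :=
        { toRingHom := hV'.appTop.hom
          commutes' := fun r => by
            have : ψ ≫ hV'.appTop = sc c := by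
              simp only [ψ, sc, Category.assoc, ← Scheme.Hom.comp_appTop]
              rw [IsOpenImmersion.lift_fac_assoc, hhc, Category.assoc, hh]
            exact congr($(this) r) }
      have hle : a.range ≤ B c := hBmax c _ (sepSub_range hEf a)
      let b : Γ(V.toScheme, ⊤) →ₐ[k] B c := a.codRestrict (B c) fun z => hle ⟨z, rfl⟩
      let t := Spec.map (CommRingCat.ofHom b.toRingHom) ≫ V.toScheme.isoSpec.inv ≫ V.ι
      have ht₁ : t ≫ gY = gc c := by
        simp only [t, Category.assoc]
        rw [← hψ, ← Spec.map_comp]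
        congr 1
        ext r
        exact congrArg Subtype.val (b.commutes r)
      have ht₂ : qc c ≫ t = hc := by
        simp only [qc, t, Category.assoc, ← Spec.map_comp_assoc]
        rw [show CommRingCat.ofHom b.toRingHom ≫ CommRingCat.ofHom (B c).val.toRingHom = hV'.appTop from rfl,
          ← Scheme.toSpecΓ_naturality_assoc, show V.toScheme.toSpecΓ = V.toScheme.isoSpec.hom from rfl,
          Iso.hom_inv_id_assoc, IsOpenImmersion.lift_fac]
      refine ⟨t, ⟨ht₁, ht₂⟩, fun t' ⟨ht'₁, ht'₂⟩ => ?_⟩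
      have hr : ∀ z, t' z ∈ Set.range V.ι := fun z => by
        rw [Scheme.Opens.range_ι]
        rw [(hsub c).elim z (qc c ⟨x, hx⟩), ← Scheme.Hom.comp_apply, ht'₂]
        rfl
      let t'' := IsOpenImmersion.lift V.ι t' (by rintro _ ⟨z, rfl⟩; exact hr z)
      have e' : qc c ≫ t'' = hV' := by
        rw [← cancel_mono V.ι, Category.assoc, IsOpenImmersion.lift_fac, IsOpenImmersion.lift_fac, ht'₂]
      obtain ⟨β, hβ⟩ := Spec.map_surjective (t'' ≫ V.toScheme.isoSpec.hom)
      have e'' : β ≫ CommRingCat.ofHom (B c).val.toRingHom = hV'.appTop := by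
        have h3 : Spec.map β ≫ V.toScheme.isoSpec.inv = t'' := by
          rw [hβ, Category.assoc, Iso.hom_inv_id, Category.comp_id]
        have h4 : (qc c ≫ Spec.map β).appTop = (hV' ≫ V.toScheme.isoSpec.hom).appTop := by
          rw [← e', ← h3]; simp only [Category.assoc, Iso.inv_hom_id, Category.comp_id]
        simp only [qc, Category.assoc, ← Spec.map_comp, Scheme.isoSpec_hom, Scheme.Hom.comp_appTop,
          Scheme.toSpecΓ_appTop, Scheme.ΓSpecIso_naturality] at h4
        exact (cancel_epi (Scheme.ΓSpecIso _).hom).1 h4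
      have : β = CommRingCat.ofHom b.toRingHom := by
        refine CommRingCat.hom_ext (RingHom.ext fun z => Subtype.ext ?_)
        exact congr($(e'') z)
      rw [show t = (Spec.map β ≫ V.toScheme.isoSpec.inv) ≫ V.ι by rw [this, Category.assoc], hβ, Category.assoc,
        Category.assoc, Iso.hom_inv_id_assoc, IsOpenImmersion.lift_fac]
    choose t ht htu using hex
    refine ⟨Sigma.desc t, ⟨Sigma.hom_ext _ _ fun c => ?_, Cofan.IsColimit.hom_ext hX _ _ fun c => ?_⟩, ?_⟩
    · rw [Sigma.ι_desc_assoc, Sigma.ι_desc]; exact (ht c).1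
    · show (U c).ι ≫ q ≫ Sigma.desc t = (U c).ι ≫ h
      rw [← Category.assoc, hq, Category.assoc, Sigma.ι_desc]; exact (ht c).2
    · rintro t' ⟨h₁, h₂⟩
      refine Sigma.hom_ext _ _ fun c => ?_
      rw [Sigma.ι_desc]
      refine htu c _ ⟨?_, ?_⟩
      · rw [Category.assoc, h₁, Sigma.ι_desc]
      · rw [← Category.assoc, ← hq, Category.assoc, h₂]
  · refine IsZariskiLocalAtSource.of_iSup_eq_top (P := @Flat) U
      (by simpa only [Scheme.Opens.opensRange_ι] using hcov) fun c => ?_
    rw [hq]
    haveI : Flat (qc c) := by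
      letI := (hB c).field.toField
      exact H12AlgSp.flat_to_field (K := B c) (qc c)
    infer_instance
  · refine ⟨fun p => ?_⟩
    obtain ⟨c, z, rfl⟩ := (sigmaOpenCover fun c => Spec (CommRingCat.of (B c))).exists_eq p
    obtain ⟨x, hx⟩ := hne c
    refine ⟨x, ?_⟩
    obtain ⟨w, hw⟩ := hqx x c hx
    rw [← hw, (hsub c).elim w z]; rfl
  · intro x
    ext x'
    rw [← connectedComponents_preimage_singleton]
    obtain ⟨w, hw⟩ := hqx x _ (rfl : x ∈ U (ConnectedComponents.mk x))
    obtain ⟨w', hw'⟩ := hqx x' _ (rfl : x' ∈ U (ConnectedComponents.mk x'))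
    show q x' = q x ↔ ConnectedComponents.mk x' = ConnectedComponents.mk x
    refine ⟨fun e => ?_, fun e => ?_⟩
    · by_contra hne'
      exact (disjoint_opensRange_sigmaι (fun c => Spec (CommRingCat.of (B c))) _ _ hne').le_bot
        ⟨⟨w', hw'⟩, ⟨w, hw.trans e.symm⟩⟩
    · revert w'
      rw [e]
      intro w' hw'
      rw [← hw, ← hw', (hsub _).elim w' w]

end Groth.Agent.H13Pi0
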